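import Cfsg.Agent.LargeFischerE.Fi22.Transport
import Cfsg.Agent.PLocal.Cores

/-!
A group `X` with a subgroup of index two of large Fischer type at a 2-central involution `z`: the class of `z`
is invariant in `X`, and the centralizer of `z` in `X` acts on `Q`.
-/

set_option autoImplicit false
set_option linter.unusedSectionVars false
set_option linter.style.haveILetI false
set_option maxHeartbeats 1000000

universe u

namespace CfsgLib.LargeFischerAut

open Cfsg CfsgLib.LargeFischer CfsgLib.LargeFischerE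

variable {X : Type u} [Group X] [Finite X] {G0 : Subgroup X} [G0.Normal]

/-- Conjugation by an element of `X` on the normal subgroup. -/
noncomputable abbrev cG (x : X) : G0 ≃* G0 := MulAut.conjNormal x

theorem coe_cG (x : X) (g : G0) : ((cG x g : G0) : X) = x * g * x⁻¹ := MulAut.conjNormal_apply x g

theorem cG_eq_self {x : X} {g : G0} : cG x g = g ↔ Commute x (g : X) := by
  constructor
  · intro h
    exact mul_inv_eq_iff_eq_mul.1 ((coe_cG x g).symm.trans (congrArg Subtype.val h))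
  · intro h
    exact Subtype.ext ((coe_cG x g).trans (mul_inv_eq_iff_eq_mul.2 h.eq))

variable {z : G0} {Q : Subgroup (Cz z)} [Q.Normal]

/-- A 2-central involution with this centralizer is the only involution central in its Sylow subgroup. -/
theorem eq_z_of_central (hS : IsExtraspecialCentralizerSetting z Q 6) (P : Sylow 2 G0) (hzP : z ∈ (P : Subgroup G0))
    (hP : ∀ x ∈ (P : Subgroup G0), Commute x z) {w : G0} (hw1 : w ≠ 1) (hw : ∀ x ∈ (P : Subgroup G0), Commute x w) :
    w = z := by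
  haveI : Fact (Nat.Prime 2) := ⟨Nat.prime_two⟩
  have hwC : w ∈ Cz z := Subgroup.mem_centralizer_singleton_iff.2 (hw z hzP).eq.symm
  have hle : (P : Subgroup G0) ≤ Cz z := fun x hx => Subgroup.mem_centralizer_singleton_iff.2 (hP x hx).eq
  have hQp : IsPGroup 2 Q := IsPGroup.of_card (n := 13) (by rw [hS.2.2.2.1])
  have hQP : Q ≤ ((P.subtype hle : Sylow 2 (Cz z)) : Subgroup (Cz z)) :=
    (CfsgLib.PLocal.le_pCore hQp).trans (CfsgLib.PLocal.pCore_le_sylow _)
  have hcomm : ∀ q : Q, (q : Cz z) * ⟨w, hwC⟩ = ⟨w, hwC⟩ * (q : Cz z) := fun q =>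
    Subtype.ext (hw _ (hQP q.2)).eq
  have hwQ : (⟨w, hwC⟩ : Cz z) ∈ Q := by
    have h : (⟨w, hwC⟩ : Cz z) ∈ Subgroup.centralizer (Q : Set (Cz z)) :=
      Subgroup.mem_centralizer_iff.2 fun q hq => hcomm ⟨q, hq⟩
    rw [← hS.2.1] at h ⊢
    exact CfsgLib.Components.centralizer_generalizedFitting_le_self h
  have hc : (⟨⟨w, hwC⟩, hwQ⟩ : Q) ∈ Subgroup.center Q :=
    Subgroup.mem_center_iff.2 fun q => Subtype.ext (hcomm q)
  rcases (mem_center_cases hS).1 hc with e | e
  · exact absurd (congrArg (fun q : Q => ((q : Cz z) : G0)) e) hw1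
  · exact congrArg (fun q : Q => ((q : Cz z) : G0)) e

/-- The class of `z` in the normal subgroup is invariant in `X`. -/
theorem exists_conj_cG (hS : IsExtraspecialCentralizerSetting z Q 6)
    (hcentral : ∃ P : Sylow 2 G0, z ∈ (P : Subgroup G0) ∧ ∀ x ∈ (P : Subgroup G0), Commute x z) (x : X) :
    ∃ h : G0, h * cG x z * h⁻¹ = z := by
  haveI : Fact (Nat.Prime 2) := ⟨Nat.prime_two⟩
  obtain ⟨P, hzP, hP⟩ := hcentral
  let P' : Sylow 2 G0 := P.comapOfInjective (cG (G0 := G0) x).symm.toMonoidHom (cG (G0 := G0) x).symm.injective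
    (fun g _ => ⟨cG x g, (cG x).symm_apply_apply g⟩)
  obtain ⟨h, hh⟩ := MulAction.exists_smul_eq G0 P' P
  refine ⟨h, eq_z_of_central hS P hzP hP ?_ fun a ha => ?_⟩
  · intro e
    rw [conj_eq_one_iff, map_eq_one_iff _ (cG x).injective] at e
    exact zin_ne_one hS (Subtype.ext (Subtype.ext e))
  · have hb : h⁻¹ * a * h ∈ (P' : Subgroup G0) := by
      rw [← hh, Sylow.smul_def, Sylow.pointwise_smul_def, Subgroup.mem_pointwise_smul_iff_inv_smul_mem] at ha
      simpa [MulAut.smul_def, ← map_inv] using ha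
    have hc : Commute ((cG x).symm (h⁻¹ * a * h)) z := hP _ hb
    have hc' := hc.map (cG x).toMonoidHom
    simp only [MulEquiv.coe_toMonoidHom, MulEquiv.apply_symm_apply] at hc'
    have := hc'.map (MulAut.conj h).toMonoidHom
    simp only [MulEquiv.coe_toMonoidHom, MulAut.conj_apply] at this
    rwa [show h * (h⁻¹ * a * h) * h⁻¹ = a by group] at this

/-- An element of `X` fixing `z` preserves `Q`. -/
theorem cG_mem_inG (hS : IsExtraspecialCentralizerSetting z Q 6) {x : X} (hx : Commute x (z : X)) {a : G0}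
    (ha : a ∈ inG Q) : cG x a ∈ inG Q := by
  have key : ∀ {w : G0} (hw : cG x z = w), ∀ b : Cz z, b ∈ generalizedFittingSubgroup (Cz z) →
      cG x b ∈ (generalizedFittingSubgroup (Cz w)).map (Cz w).subtype := by
    rintro w rfl b hb
    refine ⟨singletonEquiv (cG x) z b, ?_, rfl⟩
    rw [← CfsgLib.Balance.map_generalizedFittingSubgroup_equiv (singletonEquiv (cG x) z)]
    exact ⟨b, hb, rfl⟩
  obtain ⟨b, hb, rfl⟩ := ha
  obtain ⟨c, hc, e⟩ := key (cG_eq_self.2 hx) b (hS.2.1.symm ▸ hb)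
  exact ⟨c, hS.2.1 ▸ hc, e⟩

/-- Outside the normal subgroup some element fixes both `z` and the involution of the pair. -/
theorem exists_outer_fix {D : Data z Q} {C : Coords D} (P : Pair C) (hidx : G0.index = 2)
    (hcentral : ∃ P : Sylow 2 G0, z ∈ (P : Subgroup G0) ∧ ∀ x ∈ (P : Subgroup G0), Commute x z) :
    ∃ x : X, x ∉ G0 ∧ Commute x (z : X) ∧ Commute x (P.tG : X) := by
  obtain ⟨x, hx⟩ : ∃ x : X, x ∉ G0 := by
    by_contra h
    push Not at h
    rw [(Subgroup.eq_top_iff' _).2 h, Subgroup.index_top] at hidx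
    norm_num at hidx
  obtain ⟨h, hh⟩ := exists_conj_cG D.hS hcentral x
  let x1 : X := (h : X) * x
  have hx1 : x1 ∉ G0 := fun e => hx (by
    have := mul_mem (inv_mem h.2) e
    rwa [inv_mul_cancel_left] at this)
  have hx1z : cG x1 z = z := by
    refine Subtype.ext ?_
    rw [coe_cG]
    have := congrArg Subtype.val hh
    simp only [Subgroup.coe_mul, Subgroup.coe_inv, coe_cG] at this
    refine Eq.trans ?_ this
    simp only [x1]
    group
  have hz2 : orderOf (z : X) = 2 := by rw [Subgroup.orderOf_coe]; exact D.hS.1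
  have ht : P.tG ∈ inG Q := mem_inG.2 ⟨P.t, rfl⟩
  obtain ⟨⟨c, hc⟩, hcQ, e⟩ := cG_mem_inG D.hS (cG_eq_self.1 hx1z) ht
  have hnc : ¬ IsConj z (cG x1 P.tG) := fun hcj => by
    have h2 := (cG (G0 := G0) x1).symm.toMonoidHom.map_isConj hcj
    simp only [MulEquiv.coe_toMonoidHom, MulEquiv.symm_apply_apply] at h2
    rw [(cG x1).symm_apply_eq.2 hx1z.symm] at h2
    exact not_isConj_of_inA C (P.ht ▸ D1_inA C (by decide)) h2
  have h2 : orderOf (cG x1 P.tG) = 2 := by
    rw [MulEquiv.orderOf_eq]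
    refine orderOf_eq_prime (by rw [pow_two, P.tG_sq]) fun e1 => ?_
    exact D1_ne_zero C (a := (1, 0)) (by decide) (by
      rw [← P.ht, show P.t = 1 from qIncl_injective Q (e1.trans (map_one _).symm), vec_one])
  have e' : c = cG x1 P.tG := e
  obtain ⟨k, hk, hk'⟩ := exists_conj_pair P (cG x1 P.tG) ⟨e' ▸ hc, by subst e'; exact hcQ⟩ h2 hnc
  refine ⟨(k : X)⁻¹ * x1, fun e => hx1 ?_, ?_, ?_⟩
  · have := mul_mem k.2 e
    rwa [mul_inv_cancel_left] at this
  · exact ((show Commute (k : X) (z : X) from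
      congrArg Subtype.val (Subgroup.mem_centralizer_singleton_iff.1 hk)).inv_left).mul_left (cG_eq_self.1 hx1z)
  · refine cG_eq_self.1 (Subtype.ext ?_)
    rw [coe_cG]
    have h3 := congrArg Subtype.val hk'
    simp only [Subgroup.coe_mul, Subgroup.coe_inv, coe_cG] at h3
    calc (k : X)⁻¹ * x1 * (P.tG : X) * ((k : X)⁻¹ * x1)⁻¹
        = (k : X)⁻¹ * (x1 * (P.tG : X) * x1⁻¹) * k := by group
      _ = (k : X)⁻¹ * ((k : X) * (P.tG : X) * (k : X)⁻¹) * k := by rw [h3]
      _ = (P.tG : X) := by group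

end CfsgLib.LargeFischerAut
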