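import Cfsg.Agent.LargeFischerAut.Extend

/-!
A subgroup of index two of large Fischer type: the involution is 2-central, and the generalized Fitting subgroup of
its centralizer in the whole group is the extraspecial subgroup unless an outer element acts trivially on the module.
-/

set_option autoImplicit false
set_option linter.unusedSectionVars false
set_option linter.style.haveILetI false
set_option maxHeartbeats 1000000

universe u

namespace CfsgLib.LargeFischer

/-- An involutory automorphism of the module commuting with the action is trivial. -/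
theorem Frame.eq_id_of_commute {L V : Type*} [Group L] [AddCommGroup V] {S : Setting L V} (F : Frame S)
    (γ : V ≃+ V) (hγ : ∀ l v, γ (S.φ l v) = S.φ l (γ v)) (h2 : ∀ v, γ (γ v) = v) (v : V) : γ v = v := by
  classical
  let sg : Fin 6 → W →+ V := fun i => F.coord.symm.toAddMonoidHom.comp (AddMonoidHom.single (fun _ => W) i)
  have hsg : ∀ i w, F.coord (sg i w) = Pi.single i w := fun i w => F.coord.apply_symm_apply _
  let g : Fin 6 → W → W := fun i w => F.coord (γ (sg i w)) i
  have hline : ∀ i w, γ (sg i w) = sg i (g i w) := by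
    intro i w
    refine F.coord.injective (funext fun j => ?_)
    rw [hsg]
    by_cases hj : j = i
    · subst hj; rw [Pi.single_eq_same]
    rw [Pi.single_eq_of_ne hj]
    obtain ⟨j', hj'j, hj'i⟩ := (by decide : ∀ i j : Fin 6, ∃ j', j' ≠ j ∧ j' ≠ i) i j
    let k : Fin 6 → ZMod 3 := fun m => if m = j then 1 else if m = j' then 2 else 0
    have hk : ∑ m, k m = 0 :=
      (by decide : ∀ j j' : Fin 6, j' ≠ j →
        (∑ m, (if m = j then (1 : ZMod 3) else if m = j' then 2 else 0)) = 0) j j' hj'j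
    obtain ⟨l, hl⟩ := F.diag k hk
    have hfix : S.φ l (sg i w) = sg i w := by
      refine F.coord.injective (funext fun m => ?_)
      rw [hl, hsg]
      by_cases hm : m = i
      · subst hm
        simp [k, Ne.symm hj, Ne.symm hj'i, rk]
      · rw [Pi.single_eq_of_ne hm, rk_one_zero]
    have h := hl (γ (sg i w)) j
    rw [← hγ, hfix] at h
    have hkj : k j = 1 := if_pos rfl
    rw [hkj] at h
    exact (by decide : ∀ x : W, x = rk 1 x → x = 0) _ h
  have hadd : ∀ i a b, g i (a + b) = g i a + g i b := fun i a b => by simp [g, map_add]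
  have hr : ∀ i w, g i (rW w) = rW (g i w) := by
    intro i w
    have e : sg i (rW w) = S.φ S.x (sg i w) := by
      refine F.coord.injective (funext fun m => ?_)
      rw [F.coord_x, hsg, hsg]
      by_cases hm : m = i
      · subst hm; simp
      · rw [Pi.single_eq_of_ne hm, Pi.single_eq_of_ne hm, map_zero]
    show F.coord (γ (sg i (rW w))) i = _
    rw [e, hγ, F.coord_x]
  have hgg : ∀ i w, g i (g i w) = w := by
    intro i w
    show F.coord (γ (sg i (g i w))) i = w
    rw [← hline, h2, hsg, Pi.single_eq_same]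
  have hg1 : ∀ i, g i (1, 0) = (1, 0) := by
    intro i
    have h0 : g i 0 = 0 := by simp [g]
    have r1 : g i (0, 1) = rW (g i (1, 0)) := by
      rw [← hr i (1, 0), show rW ((1, 0) : W) = (0, 1) by decide]
    have r2 : g i (1, 1) = rW (rW (g i (1, 0))) := by
      rw [← r1, ← hr i (0, 1), show rW ((0, 1) : W) = (1, 1) by decide]
    have h := hgg i (1, 0)
    rcases (by decide : ∀ a : W, a = (0, 0) ∨ a = (1, 0) ∨ a = (0, 1) ∨ a = (1, 1)) (g i (1, 0)) with
      e | e | e | e
    · rw [e, show ((0, 0) : W) = 0 from rfl, h0] at h; exact absurd h (by decide)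
    · exact e
    · rw [e, r1, e] at h; exact absurd h (by decide)
    · rw [e, r2, e] at h; exact absurd h (by decide)
  have hgid : ∀ i w, g i w = w := by
    intro i w
    rcases (by decide : ∀ a : W, a = 0 ∨ a = (1, 0) ∨ a = rW (1, 0) ∨ a = rW (rW (1, 0))) w with
      e | e | e | e <;> subst e
    · simp [g]
    · exact hg1 i
    · rw [hr, hg1]
    · rw [hr, hr, hg1]
  have hv : v = ∑ i, sg i (F.coord v i) := by
    refine F.coord.injective ?_
    rw [map_sum]
    simp only [hsg]
    exact (Finset.univ_sum_single _).symm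
  rw [hv, map_sum]
  exact Finset.sum_congr rfl fun i _ => by rw [hline, hgid]

end CfsgLib.LargeFischer

namespace CfsgLib.LargeFischerAut

open Cfsg CfsgLib.LargeFischer CfsgLib.LargeFischerE

variable {G : Type u} [Group G] [Finite G] {z : G} {Q : Subgroup (Cz z)} [Q.Normal]

/-- The involution is central in a Sylow 2-subgroup. -/
theorem exists_central_sylow (hS : IsExtraspecialCentralizerSetting z Q 6) :
    ∃ P : Sylow 2 G, z ∈ (P : Subgroup G) ∧ ∀ x ∈ (P : Subgroup G), Commute x z := by
  classical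
  haveI : Fact (Nat.Prime 2) := ⟨Nat.prime_two⟩
  have hQp : IsPGroup 2 (inG Q) := (IsPGroup.of_card (n := 13) (by rw [hS.2.2.2.1])).map _
  obtain ⟨P, hP⟩ := hQp.exists_le_sylow
  have hzP : z ∈ (P : Subgroup G) := hP ⟨_, (zin hS).2, rfl⟩
  haveI : Nontrivial (P : Subgroup G) :=
    ⟨⟨⟨z, hzP⟩, 1, fun e => zin_ne_one hS (Subtype.ext (Subtype.ext (congrArg Subtype.val e :)))⟩⟩
  haveI := P.2.center_nontrivial
  obtain ⟨w, hw⟩ := exists_ne (1 : Subgroup.center (P : Subgroup G))
  have hwc : ∀ x ∈ (P : Subgroup G), Commute x ((w : (P : Subgroup G)) : G) := fun x hx =>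
    congrArg Subtype.val (Subgroup.mem_center_iff.1 w.2 ⟨x, hx⟩)
  set a : Cz z := ⟨((w : (P : Subgroup G)) : G), Subgroup.mem_centralizer_singleton_iff.2 (hwc z hzP).eq.symm⟩
    with ha
  have hcomm : ∀ q : Q, (q : Cz z) * a = a * (q : Cz z) := fun q =>
    Subtype.ext (hwc _ (hP ⟨_, q.2, rfl⟩)).eq
  have haQ : a ∈ Q := by
    have h : a ∈ Subgroup.centralizer (Q : Set (Cz z)) :=
      Subgroup.mem_centralizer_iff.2 fun q hq => hcomm ⟨q, hq⟩
    rw [← hS.2.1] at h ⊢
    exact CfsgLib.Components.centralizer_generalizedFitting_le_self h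
  rcases (mem_center_cases hS).1 (Subgroup.mem_center_iff.2 fun q => Subtype.ext (hcomm q) :
    (⟨a, haQ⟩ : Q) ∈ Subgroup.center Q) with e | e
  · exact (hw (Subtype.ext (Subtype.ext (congrArg (fun q : Q => ((q : Cz z) : G)) e :)))).elim
  · refine ⟨P, hzP, fun x hx => ?_⟩
    have hwz : ((w : (P : Subgroup G)) : G) = z := congrArg (fun q : Q => ((q : Cz z) : G)) e
    exact hwz ▸ hwc x hx

variable {X : Type u} [Group X] [Finite X] {G0 : Subgroup X} [G0.Normal] {y : G0} {R : Subgroup (Cz y)} [R.Normal]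

/-- The generalized Fitting subgroup of the centralizer in the whole group. -/
theorem fStar_ext (hF : IsOfLargeFischerTypeAt y R) (hidx : G0.index = 2)
    (hout : ∀ g : X, g ∉ G0 → Commute g (y : X) → ∃ q : R, cG g ((q : Cz y) : G0) ≠ ((q : Cz y) : G0) ∧
      cG g ((q : Cz y) : G0) ≠ ((q : Cz y) : G0) * y) :
    (Cfsg.generalizedFittingSubgroup ↥(Subgroup.centralizer ({(y : X)} : Set X))).map (Subgroup.subtype _) =
      ((R.map (Subgroup.subtype _)).map G0.subtype) := by
  classical
  haveI : Fact (Nat.Prime 2) := ⟨Nat.prime_two⟩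
  obtain ⟨D⟩ := exists_data hF
  obtain ⟨F⟩ := D.exists_frame
  have hS := D.hS
  set C' := Subgroup.centralizer ({(y : X)} : Set X) with hC'
  set Rx := (R.map (Cz y).subtype).map G0.subtype with hRx
  have hC'z : ∀ c : C', Commute (c : X) (y : X) := fun c => Subgroup.mem_centralizer_singleton_iff.1 c.2
  have hmemRx : ∀ {a : X}, a ∈ Rx ↔ ∃ q : R, (((q : Cz y) : G0) : X) = a :=
    fun {a} => ⟨fun ⟨_, ⟨c, hc, rfl⟩, e⟩ => ⟨⟨c, hc⟩, e⟩, fun ⟨q, e⟩ => ⟨_, ⟨q, q.2, rfl⟩, e⟩⟩
  have hRle : Rx ≤ C' := fun a ha => by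
    obtain ⟨q, rfl⟩ := hmemRx.1 ha
    exact Subgroup.mem_centralizer_singleton_iff.2
      (congrArg Subtype.val (Subgroup.mem_centralizer_singleton_iff.1 (q : Cz y).2) :)
  -- conjugation by an element of the centralizer
  have hconj : ∀ (c : C') (q : R), cG (c : X) ((q : Cz y) : G0) ∈ R.map (Cz y).subtype := fun c q =>
    cG_mem_inG hS (hC'z c) ⟨_, q.2, rfl⟩
  set R' := Rx.subgroupOf C' with hR'
  haveI hR'n : R'.Normal := ⟨fun a ha c => by
    obtain ⟨q, hq⟩ := hmemRx.1 (Subgroup.mem_subgroupOf.1 ha)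
    obtain ⟨r, hr, e⟩ := hconj c q
    refine Subgroup.mem_subgroupOf.2 (hmemRx.2 ⟨⟨r, hr⟩, ?_⟩)
    show ((r : G0) : X) = (c : X) * (a : X) * (c : X)⁻¹
    rw [show ((r : Cz y) : G0) = cG (c : X) ((q : Cz y) : G0) from e, coe_cG, hq]⟩
  have hR'card : Nat.card R' = 2 ^ 13 := by
    rw [hR', Nat.card_congr (Subgroup.subgroupOfEquivOfLe hRle).toEquiv, hRx,
      Subgroup.card_map_of_injective G0.subtype_injective,
      Subgroup.card_map_of_injective (Cz y).subtype_injective, hS.2.2.2.1]
  have hR'p : IsPGroup 2 R' := IsPGroup.of_card hR'card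
  -- the self-centralizing property
  have hself : Subgroup.centralizer (R' : Set C') ≤ R' := by
    intro c hc
    have hq : ∀ q : R, Commute (c : X) (((q : Cz y) : G0) : X) := fun q =>
      (congrArg Subtype.val (Subgroup.mem_centralizer_iff.1 hc
        ⟨_, hRle (hmemRx.2 ⟨q, rfl⟩)⟩ (Subgroup.mem_subgroupOf.2 (hmemRx.2 ⟨q, rfl⟩)))).symm
    by_cases hc0 : (c : X) ∈ G0
    · let a : Cz y := ⟨⟨(c : X), hc0⟩, Subgroup.mem_centralizer_singleton_iff.2 (Subtype.ext (hC'z c).eq)⟩
      have ha : a ∈ R := by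
        have h : a ∈ Subgroup.centralizer (R : Set (Cz y)) :=
          Subgroup.mem_centralizer_iff.2 fun q hq' => Subtype.ext (Subtype.ext (hq ⟨q, hq'⟩).eq.symm)
        rw [← hS.2.1] at h ⊢
        exact CfsgLib.Components.centralizer_generalizedFitting_le_self h
      exact Subgroup.mem_subgroupOf.2 (hmemRx.2 ⟨⟨a, ha⟩, rfl⟩)
    · obtain ⟨q, h1, -⟩ := hout c hc0 (hC'z c)
      exact absurd (cG_eq_self.2 (hq q)) h1
  have hlayer : layer C' = ⊥ := by
    have hle : layer C' ≤ R' :=
      (CfsgLib.Components.layer_le_centralizer_fittingSubgroup.trans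
        (Subgroup.centralizer_le (SetLike.coe_subset_coe.2
          (CfsgLib.Components.le_fittingSubgroup hR'p.isNilpotent)))).trans hself
    refine sSup_eq_bot.2 fun K hK => ?_
    exfalso
    haveI := (hR'p.to_le ((le_sSup hK).trans hle)).isNilpotent
    exact CfsgLib.Components.IsComponent.not_isSolvable hK inferInstance
  have hodd : ∀ M : Subgroup C', M.Normal → (Nat.card M).Coprime 2 → M = ⊥ := by
    intro M hM hcop
    have hdis : Disjoint M R' := by
      refine disjoint_iff.2 (Subgroup.eq_bot_iff_card _ |>.2 ?_)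
      refine Nat.eq_one_of_dvd_coprimes (a := Nat.card M) (b := 2 ^ 13) (hcop.pow_right _)
        (Subgroup.card_dvd_of_le inf_le_left) ?_
      rw [← hR'card]
      exact Subgroup.card_dvd_of_le inf_le_right
    have hMR : M ≤ R' := fun a ha => hself (Subgroup.mem_centralizer_iff.2 fun r hr =>
      ((Subgroup.commute_of_normal_of_disjoint M R' hM hR'n hdis a r ha hr).eq).symm)
    exact disjoint_self.1 (hdis.mono_right hMR)
  -- the largest normal 2-subgroup
  let ι : Cz y →* C' := MonoidHom.codRestrict (G0.subtype.comp (Cz y).subtype) C' fun a =>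
    Subgroup.mem_centralizer_singleton_iff.2
      (congrArg Subtype.val (Subgroup.mem_centralizer_singleton_iff.1 a.2) :)
  have hι : Function.Injective ι := fun a b h => Subtype.ext (Subtype.ext (congrArg Subtype.val h :))
  have hPn : (pCore 2 C').Normal := Subgroup.sSup_normal _ fun _ h => h.1
  have hin : ∀ a : Cz y, ι a ∈ pCore 2 C' → a ∈ R := by
    intro a ha
    haveI := hPn.comap ι
    have h1 : a ∈ pCore 2 (Cz y) :=
      CfsgLib.Components.le_pCore (N := (pCore 2 C').comap ι)
        ((CfsgLib.Components.isPGroup_pCore 2).comap_of_injective ι hι) ha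
    exact hS.2.1 ▸ CfsgLib.Components.fitting_le_generalizedFitting
      (CfsgLib.Components.pCore_le_fittingSubgroup 2 h1)
  have hcore : pCore 2 C' = R' := by
    refine le_antisymm (fun g hg => ?_) (CfsgLib.Components.le_pCore hR'p)
    by_cases hg0 : (g : X) ∈ G0
    · let a : Cz y := ⟨⟨(g : X), hg0⟩, Subgroup.mem_centralizer_singleton_iff.2 (Subtype.ext (hC'z g).eq)⟩
      have ha : a ∈ R := hin a (show ι a ∈ pCore 2 C' from (show ι a = g from rfl) ▸ hg)
      exact Subgroup.mem_subgroupOf.2 (hmemRx.2 ⟨⟨a, ha⟩, rfl⟩)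
    exfalso
    obtain ⟨q₀, hne1, hne2⟩ := hout g hg0 (hC'z g)
    have hsq : (g : X) * g ∈ G0 := Subgroup.mul_self_mem_of_index_two hidx _
    let g2 : Cz y := ⟨⟨(g : X) * g, hsq⟩, Subgroup.mem_centralizer_singleton_iff.2
      (Subtype.ext ((hC'z g).mul_left (hC'z g)).eq)⟩
    have hg2 : g2 ∈ R := hin g2 ((pCore 2 C').mul_mem hg hg)
    -- the induced automorphism of `R`
    have hcmem : ∀ q : R, ∃ r : R, ((r : Cz y) : G0) = cG (g : X) ((q : Cz y) : G0) := fun q => by
      obtain ⟨r, hr, e⟩ := hconj g q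
      exact ⟨⟨r, hr⟩, e⟩
    choose cf hcf using hcmem
    let φ : R →* R := MonoidHom.mk' cf fun a b => Subtype.ext (Subtype.ext (by
      rw [Subgroup.coe_mul, Subgroup.coe_mul, hcf, hcf, hcf, ← map_mul]; rfl))
    have hφ : Function.Bijective φ := by
      refine Finite.injective_iff_bijective.1 fun a b h => ?_
      have h' := congrArg (fun r : R => ((r : Cz y) : G0)) h
      rw [show ((φ a : Cz y) : G0) = _ from hcf a, show ((φ b : Cz y) : G0) = _ from hcf b] at h'
      exact Subtype.ext (Subtype.ext ((cG (g : X)).injective h'))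
    let γ : QV R ≃+ QV R :=
      MulEquiv.toAdditive (MulEquiv.abelianizationCongr (MulEquiv.ofBijective φ hφ))
    have hγ : ∀ q, γ (vec q) = vec (cf q) := fun q => rfl
    have hvconj : ∀ a q : R, vec (a * q * a⁻¹) = vec q := fun a q => by
      rw [show vec (a * q * a⁻¹) = vec q + vec (a * a⁻¹) by simp only [vec_mul]; abel, mul_inv_cancel,
        vec_one, add_zero]
    have h2 : ∀ v, γ (γ v) = v := by
      intro v
      obtain ⟨q, rfl⟩ := vec_surjective v
      rw [hγ, hγ, ← hvconj ⟨g2, hg2⟩ q]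
      congr 1
      refine Subtype.ext (Subtype.ext (Subtype.ext ?_))
      rw [hcf, coe_cG, hcf, coe_cG]
      show _ = ((g : X) * g) * _ * ((g : X) * g)⁻¹
      group
    have hcomm : ∀ l v, γ (D.setting.φ l v) = D.setting.φ l (γ v) := by
      intro l v
      obtain ⟨h, hh⟩ := QuotientGroup.mk_surjective (l : Cz y ⧸ R)
      obtain ⟨q, rfl⟩ := vec_surjective v
      show γ (act (l : Cz y ⧸ R) (vec q)) = act (l : Cz y ⧸ R) (γ (vec q))
      rw [← hh, act_mk hS, act_mk hS, actC_vec, hγ, hγ, actC_vec]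
      -- the commutator with `g` lies in `R`
      let c : Cz y := ⟨(cG (g : X) (h : G0)) * (h : G0)⁻¹, Subgroup.mem_centralizer_singleton_iff.2 (by
        refine Subtype.ext ?_
        show ((cG (g : X) (h : G0) : G0) : X) * ((h : G0) : X)⁻¹ * (y : X) =
          (y : X) * (((cG (g : X) (h : G0) : G0) : X) * ((h : G0) : X)⁻¹)
        have h1 : Commute ((h : G0) : X) (y : X) :=
          congrArg Subtype.val (Subgroup.mem_centralizer_singleton_iff.1 h.2)
        rw [coe_cG]
        exact ((((hC'z g).mul_left h1).mul_left (hC'z g).inv_left).mul_left h1.inv_left).eq)⟩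
      have hc : c ∈ R := hin c (by
        have : ι c = g * (ι h * g⁻¹ * (ι h)⁻¹) := Subtype.ext (by
          show ((cG (g : X) (h : G0) : G0) : X) * ((h : G0) : X)⁻¹ =
            (g : X) * (((h : G0) : X) * (g : X)⁻¹ * ((h : G0) : X)⁻¹)
          rw [coe_cG]; group)
        rw [this]
        exact mul_mem hg (hPn.conj_mem _ (inv_mem hg) _))
      rw [← hvconj ⟨c, hc⟩ (conjIn h (cf q))]
      congr 1
      refine Subtype.ext (Subtype.ext ?_)
      rw [hcf, conjIn_coe]
      show _ = (c : G0) * ((conjIn h (cf q) : R) : Cz y) * (c : G0)⁻¹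
      rw [conjIn_coe]
      simp only [Subgroup.coe_mul, Subgroup.coe_inv, hcf, c, map_mul, map_inv]
      group
    have hid := F.eq_id_of_commute γ hcomm h2 (vec q₀)
    rw [hγ, vec_eq_iff hS] at hid
    rcases (mem_center_cases hS).1 hid with e | e
    · exact hne1 (by rw [← hcf, inv_mul_eq_one.1 e])
    · refine hne2 ?_
      have e' : q₀ = cf q₀ * zin hS := inv_mul_eq_iff_eq_mul.1 e
      have e2 : cf q₀ = q₀ * zin hS := by
        conv_rhs => rw [e', mul_assoc, zin_sq hS, mul_one]
      rw [← hcf, e2]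
      rfl
  rw [CfsgLib.Components.generalizedFitting_eq_pCore 2 hlayer hodd, hcore, hR', Subgroup.map_subgroupOf_eq_of_le hRle]

end CfsgLib.LargeFischerAut
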