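import Cfsg.Agent.LargeFischerAut.Extend
import Cfsg.Agent.FischerTypes.M24Triple

/-!
The kernel `K` of index two in the centralizer of `t`: it contains the centralizer of the four-group, and the
centralizer of `t` modulo `t` induces every automorphism of `K` modulo `t`. Hence an element outside `G0`
centralizes `K`.
-/

set_option autoImplicit false
set_option linter.unusedSectionVars false
set_option linter.style.haveILetI false
set_option maxHeartbeats 1000000

universe u

namespace CfsgLib.LargeFischerAut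

open Cfsg CfsgLib.LargeFischer CfsgLib.LargeFischerE

theorem center_mulAut_eq_bot {S : Type*} [Group S] (h : Subgroup.center S = ⊥) :
    Subgroup.center (MulAut S) = ⊥ := by
  rw [eq_bot_iff]
  intro a ha
  refine Subgroup.mem_bot.2 (MulEquiv.ext fun g => ?_)
  have h1 : MulAut.conj g * a = a * MulAut.conj g := Subgroup.mem_center_iff.1 ha _
  have hmem : (a g)⁻¹ * g ∈ Subgroup.center S := Subgroup.mem_center_iff.2 fun b => by
    have h2 := DFunLike.congr_fun h1 (a.symm b)
    simp only [MulAut.mul_apply, MulAut.conj_apply, map_mul, map_inv, MulEquiv.apply_symm_apply] at h2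
    calc b * ((a g)⁻¹ * g) = (a g)⁻¹ * (a g * b * (a g)⁻¹) * g := by group
      _ = (a g)⁻¹ * (g * b * g⁻¹) * g := by rw [h2]
      _ = (a g)⁻¹ * g * b := by group
  rw [h, Subgroup.mem_bot, inv_mul_eq_one] at hmem
  exact hmem

theorem le_of_perfect_of_index_two {H : Type*} [Group H] {N : Subgroup H} (hN : N.index = 2) {S : Subgroup H}
    (hS : commutator S = ⊤) : S ≤ N := by
  intro a ha
  haveI : N.Normal := Subgroup.normal_of_index_eq_two hN
  have hle : commutator S ≤ N.subgroupOf S := by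
    rw [commutator_def, Subgroup.commutator_le]
    intro x _ y _
    rw [Subgroup.mem_subgroupOf]
    show (x : H) * y * (x : H)⁻¹ * (y : H)⁻¹ ∈ N
    rw [Subgroup.mul_mem_iff_of_index_two hN, Subgroup.mul_mem_iff_of_index_two hN,
      Subgroup.mul_mem_iff_of_index_two hN, inv_mem_iff, inv_mem_iff]
    tauto
  exact hle (hS ▸ Subgroup.mem_top (⟨a, ha⟩ : S))

variable {X : Type u} [Group X] [Finite X] {G0 : Subgroup X} [G0.Normal] {z : G0} {Q : Subgroup (Cz z)} [Q.Normal]
  {D : Data z Q} {C : Coords D}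

/-- The kernel in the centralizer of `t`. -/
abbrev Kt (P : Pair C) : Subgroup G0 :=
  (Cfsg.generalizedFittingSubgroup ↥P.Ct).map P.Ct.subtype

/-- Properties of the kernel. -/
structure KFacts (P : Pair C) : Prop where
  qs : Cfsg.IsQuasisimple ↥(Kt P)
  t_mem : P.tG ∈ Kt P
  ec_le : P.EC ≤ Kt P
  perfect_le : ∀ S : Subgroup G0, commutator S = ⊤ → (∀ a ∈ S, Commute a P.tG) → S ≤ Kt P
  normal : ∀ g : G0, Commute g P.tG → ∀ k ∈ Kt P, g * k * g⁻¹ ∈ Kt P
  index : ∀ g h : G0, Commute g P.tG → Commute h P.tG → g ∉ Kt P → h ∉ Kt P → g * h ∈ Kt P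
  self : ∀ g : G0, Commute g P.tG → (∀ k ∈ Kt P, Commute g k) → g = 1 ∨ g = P.tG
  outer : ∀ x : X, Commute x (P.tG : X) → ∃ g : G0, Commute g P.tG ∧
    ∀ k ∈ Kt P, Commute ((g : X)⁻¹ * x) (k : X)

variable {T1 : Sylow 2 (Cz z)} {B : Subgroup (Cz z)}

theorem kFacts (rec : RecU62.{u}) (hA : LargeFischerJ.Anchor C T1 B) (P : Pair C) : KFacts P := by
  classical
  set Z := (Subgroup.zpowers P.tG).subgroupOf P.Ct with hZ
  haveI : Z.Normal := zpowers_normal P.tG
  obtain ⟨⟨hqs, hidx, ⟨htc, htF⟩, ⟨e⟩⟩, ⟨f⟩, hU⟩ := P.concl_both rec hA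
  set F := Cfsg.generalizedFittingSubgroup ↥P.Ct with hF
  haveI hFn : F.Normal := Subgroup.normal_of_index_eq_two hidx
  set q := QuotientGroup.mk' Z with hq
  set X2 := F.map q with hX2
  haveI : X2.Normal := hFn.map q (QuotientGroup.mk'_surjective Z)
  have ht2 : P.tG * P.tG = 1 := P.tG_sq
  have hZmem : ∀ a : P.Ct, q a = 1 ↔ (a : G0) = 1 ∨ (a : G0) = P.tG := by
    intro a
    rw [hq, QuotientGroup.mk'_apply, QuotientGroup.eq_one_iff, hZ, Subgroup.mem_subgroupOf]
    constructor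
    · intro h
      obtain ⟨k, hk⟩ := Subgroup.mem_zpowers_iff.1 h
      have h2 : P.tG ^ (2 : ℤ) = 1 := by rw [zpow_two, ht2]
      rcases Int.even_or_odd' k with ⟨j, rfl | rfl⟩
      · exact Or.inl (by rw [← hk, zpow_mul, h2, one_zpow])
      · exact Or.inr (by rw [← hk, zpow_add, zpow_mul, h2, one_zpow, one_mul, zpow_one])
    · rintro (h | h) <;> rw [h]
      exacts [one_mem _, Subgroup.mem_zpowers _]
  have hX2i : X2.index = 2 := by
    rw [hX2, Subgroup.index_map_eq _ (QuotientGroup.mk'_surjective _) ?_, hidx]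
    intro a ha
    rcases (hZmem a).1 (MonoidHom.mem_ker.1 ha) with h | h
    · rw [show a = 1 from Subtype.ext h]; exact one_mem _
    · exact (show (⟨P.tG, htc⟩ : P.Ct) = a from Subtype.ext h.symm) ▸ htF
  have hcS : Subgroup.center Cfsg.Spor.Fi22 = ⊥ := by
    haveI : Finite Cfsg.Spor.Fi22 := Finite.of_equiv _ f.toEquiv
    obtain ⟨E, -, h22⟩ := hU.exists_class
    exact h22.1
  have hcX2 : ∀ c : X2, (∀ b : X2, b * c = c * b) → c = 1 := fun c hc => by
    refine f.injective ?_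
    have h1 : f c ∈ Subgroup.center Cfsg.Spor.Fi22 := Subgroup.mem_center_iff.2 fun s => by
      obtain ⟨b, rfl⟩ := f.surjective s
      rw [← map_mul, ← map_mul, hc b]
    rw [hcS, Subgroup.mem_bot] at h1
    rw [h1, map_one]
  let act : P.Ct ⧸ Z →* MulAut X2 := MulAut.conjNormal
  have hinj : Function.Injective act := by
    rw [← MonoidHom.ker_eq_bot_iff, eq_bot_iff]
    intro y hy
    have hcomm : ∀ b : X2, y * (b : P.Ct ⧸ Z) = b * y := fun b => by
      have h := congrArg Subtype.val (DFunLike.congr_fun (MonoidHom.mem_ker.1 hy) b)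
      simp only [act, MulAut.one_apply, MulAut.conjNormal_apply] at h
      exact mul_inv_eq_iff_eq_mul.1 h
    have hcen : y ∈ Subgroup.center (P.Ct ⧸ Z) := Subgroup.mem_center_iff.2 fun w => by
      have hmem : w * y * w⁻¹ * y⁻¹ ∈ X2 := by
        rw [Subgroup.mul_mem_iff_of_index_two hX2i, inv_mem_iff]
        exact ⟨fun h => by
          have := (inferInstance : X2.Normal).conj_mem _ h w⁻¹
          rwa [show w⁻¹ * (w * y * w⁻¹) * w⁻¹⁻¹ = y by group] at this,
          fun h => (inferInstance : X2.Normal).conj_mem _ h w⟩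
      have hwy : ∀ b : X2, Commute (w * y * w⁻¹) (b : P.Ct ⧸ Z) := fun b => by
        have h := hcomm ⟨_, (inferInstance : X2.Normal).conj_mem _ b.2 w⁻¹⟩
        have h' := (show Commute y (w⁻¹ * (b : P.Ct ⧸ Z) * w⁻¹⁻¹) from h).map (MulAut.conj w).toMonoidHom
        simp only [MulEquiv.coe_toMonoidHom, MulAut.conj_apply] at h'
        rwa [show w * (w⁻¹ * (b : P.Ct ⧸ Z) * w⁻¹⁻¹) * w⁻¹ = b by group] at h'
      have h1 := hcX2 ⟨_, hmem⟩ fun b => Subtype.ext
        (((hwy b).mul_left (show Commute y (b : P.Ct ⧸ Z) from hcomm b).inv_left).eq.symm)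
      exact mul_inv_eq_iff_eq_mul.1 (mul_inv_eq_one.1 (congrArg Subtype.val h1))
    have h2 : e y ∈ Subgroup.center (MulAut Cfsg.Spor.Fi22) := Subgroup.mem_center_iff.2 fun s => by
      obtain ⟨w, rfl⟩ := e.surjective s
      rw [← map_mul, ← map_mul, Subgroup.mem_center_iff.1 hcen w]
    rw [center_mulAut_eq_bot hcS, Subgroup.mem_bot, map_eq_one_iff _ e.injective] at h2
    exact Subgroup.mem_bot.2 h2
  have hsurj : Function.Surjective act := by
    haveI : Finite (MulAut X2) := Finite.of_equiv _ (e.trans (MulAut.congr f).symm).toEquiv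
    exact ((Nat.bijective_iff_injective_and_card act).2
      ⟨hinj, Nat.card_congr (e.trans (MulAut.congr f).symm).toEquiv⟩).2
  have hK : ∀ {g : G0}, g ∈ Kt P ↔ ∃ hg : g ∈ P.Ct, (⟨g, hg⟩ : P.Ct) ∈ F := by
    intro g
    constructor
    · rintro ⟨a, ha, rfl⟩
      exact ⟨a.2, ha⟩
    · rintro ⟨hg, h⟩
      exact ⟨_, h, rfl⟩
  have hnormal : ∀ g : G0, Commute g P.tG → ∀ k ∈ Kt P, g * k * g⁻¹ ∈ Kt P := by
    intro g hg k hk
    obtain ⟨hkC, hkF⟩ := hK.1 hk
    exact hK.2 ⟨_, hFn.conj_mem _ hkF ⟨g, Subgroup.mem_centralizer_singleton_iff.2 hg.eq⟩⟩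
  have hKqs : Cfsg.IsQuasisimple ↥(Kt P) :=
    CfsgLib.Components.isQuasisimple_congr (F.equivMapOfInjective _ P.Ct.subtype_injective) hqs
  have hperfle : ∀ S : Subgroup G0, commutator S = ⊤ → (∀ a ∈ S, Commute a P.tG) → S ≤ Kt P := by
    intro S hS hc a ha
    have hle : S ≤ P.Ct := fun b hb => Subgroup.mem_centralizer_singleton_iff.2 (hc b hb).eq
    have hperf' : commutator (S.subgroupOf P.Ct) = ⊤ := by
      have h1 := congrArg (Subgroup.map (Subgroup.subgroupOfEquivOfLe hle).symm.toMonoidHom) hS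
      rwa [commutator_def, Subgroup.map_commutator,
        Subgroup.map_top_of_surjective _ (Subgroup.subgroupOfEquivOfLe hle).symm.surjective, ← commutator_def] at h1
    exact hK.2 ⟨hle ha, le_of_perfect_of_index_two hidx hperf' (Subgroup.mem_subgroupOf.2 ha)⟩
  refine ⟨hKqs, hK.2 ⟨htc, htF⟩, hperfle _ (P.ec_facts rec hA).1.1.commutator_eq_top
    (fun a ha => (P.mem_EC_iff.1 ha).1), hperfle, hnormal, ?_, ?_, ?_⟩
  · intro g h hg hh hgK hhK
    have hgC := Subgroup.mem_centralizer_singleton_iff.2 hg.eq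
    have hhC := Subgroup.mem_centralizer_singleton_iff.2 hh.eq
    refine hK.2 ⟨mul_mem hgC hhC, ?_⟩
    show (⟨g, hgC⟩ : P.Ct) * ⟨h, hhC⟩ ∈ F
    exact (Subgroup.mul_mem_iff_of_index_two hidx).2
      ⟨fun h' => absurd (hK.2 ⟨hgC, h'⟩) hgK, fun h' => absurd (hK.2 ⟨hhC, h'⟩) hhK⟩
  · intro g hg hc
    have hgC := Subgroup.mem_centralizer_singleton_iff.2 hg.eq
    refine (hZmem ⟨g, hgC⟩).1 (hinj ((MulEquiv.ext fun b => Subtype.ext ?_).trans (map_one act).symm))
    obtain ⟨_, a, ha, rfl⟩ := b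
    simp only [act, MulAut.conjNormal_apply, MulAut.one_apply]
    rw [← map_inv, ← map_mul, ← map_mul]
    refine congrArg q (Subtype.ext ?_)
    exact mul_inv_eq_iff_eq_mul.2 (hc _ (hK.2 ⟨a.2, ha⟩)).eq
  · intro x hx
    have hfix : cG x P.tG = P.tG := cG_eq_self.2 hx
    let α : P.Ct ≃* P.Ct := (singletonEquiv (cG x) P.tG).trans
      (MulEquiv.subgroupCongr (by rw [hfix]))
    have hα : ∀ a : P.Ct, ((α a : P.Ct) : G0) = cG x (a : G0) := fun a => rfl
    have hαZ : Z.map α.toMonoidHom = Z := by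
      refine Subgroup.ext fun a => ⟨?_, fun ha => ⟨a, ha, Subtype.ext ?_⟩⟩
      · rintro ⟨b, hb, rfl⟩
        have hb' : q b = 1 := (QuotientGroup.eq_one_iff b).2 hb
        refine (QuotientGroup.eq_one_iff _).1 ((hZmem _).2 ?_)
        rcases (hZmem b).1 hb' with h | h
        · exact Or.inl (by rw [MulEquiv.coe_toMonoidHom, hα, h, map_one])
        · exact Or.inr (by rw [MulEquiv.coe_toMonoidHom, hα, h, hfix])
      · show ((α a : P.Ct) : G0) = a
        rw [hα]
        rcases (hZmem a).1 ((QuotientGroup.eq_one_iff a).2 ha) with h | h <;> rw [h]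
        exacts [map_one _, hfix]
    let α' := QuotientGroup.congr Z Z α hαZ
    have hαX : X2.map α'.toMonoidHom = X2 := by
      rw [hX2, Subgroup.map_map]
      have hFα : F.map α.toMonoidHom = F := CfsgLib.Balance.map_generalizedFittingSubgroup_equiv α
      conv_rhs => rw [← hFα, Subgroup.map_map]
      rfl
    obtain ⟨y, hy⟩ := hsurj ((α'.subgroupMap X2).trans (MulEquiv.subgroupCongr hαX))
    obtain ⟨g, rfl⟩ := QuotientGroup.mk'_surjective Z y
    have hgt : Commute (g : G0) P.tG := Subgroup.mem_centralizer_singleton_iff.1 g.2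
    refine ⟨g, hgt, ?_⟩
    set d : X := ((g : G0) : X)⁻¹ * x with hd
    have hmv : ∀ k ∈ Kt P, cG d k * k⁻¹ = 1 ∨ cG d k * k⁻¹ = P.tG := by
      intro k hk
      obtain ⟨hkC, hkF⟩ := hK.1 hk
      have h := congrArg Subtype.val (DFunLike.congr_fun hy ⟨q ⟨k, hkC⟩, _, hkF, rfl⟩)
      simp only [act, MulAut.conjNormal_apply] at h
      have h' : q (g * ⟨k, hkC⟩ * g⁻¹) = q (α ⟨k, hkC⟩) := by rw [map_mul, map_mul, map_inv]; exact h
      have h'' : q (g⁻¹ * α ⟨k, hkC⟩ * g * (⟨k, hkC⟩ : P.Ct)⁻¹) = 1 := by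
        rw [map_mul, map_mul, map_mul, map_inv, map_inv, ← h']
        simp only [map_mul, map_inv]
        group
      have he : ((g⁻¹ * α ⟨k, hkC⟩ * g * (⟨k, hkC⟩ : P.Ct)⁻¹ : P.Ct) : G0) = cG d k * k⁻¹ := by
        refine Subtype.ext ?_
        simp only [Subgroup.coe_mul, Subgroup.coe_inv, hα, coe_cG, hd]
        group
      rw [← he]
      exact (hZmem _).1 h''
    have hmem : ∀ k : Kt P, cG d (k : G0) ∈ Kt P := fun k => by
      have h1 : cG d (k : G0) * (k : G0)⁻¹ ∈ Kt P := by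
        rcases hmv _ k.2 with h | h <;> rw [h]
        exacts [one_mem _, hK.2 ⟨htc, htF⟩]
      have := mul_mem h1 k.2
      rwa [inv_mul_cancel_right] at this
    let γ : Kt P →* Kt P := MonoidHom.mk' (fun k => ⟨_, hmem k⟩) fun a b => Subtype.ext (map_mul (cG d) _ _)
    intro k hk
    refine cG_eq_self.1 (congrArg Subtype.val (CfsgLib.FischerTypes.fixed_of_central_moves hKqs γ
      (fun a => ?_) ⟨k, hk⟩))
    refine Subgroup.mem_center_iff.2 fun b => Subtype.ext ?_
    obtain ⟨hbC, -⟩ := hK.1 b.2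
    show (b : G0) * (cG d (a : G0) * (a : G0)⁻¹) = cG d (a : G0) * (a : G0)⁻¹ * (b : G0)
    rcases hmv _ a.2 with h | h <;> rw [h]
    · simp
    · exact Subgroup.mem_centralizer_singleton_iff.1 hbC

end CfsgLib.LargeFischerAut
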