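import Cfsg.Agent.LargeFischerAut.Outer
import Cfsg.Agent.SporFischer.CentralizerM23

/-!
The centralizer in `G0` of the outer involution is of type M(23).
-/

set_option autoImplicit false
set_option linter.unusedSectionVars false
set_option linter.style.haveILetI false
set_option maxHeartbeats 1000000

universe u

namespace CfsgLib.LargeFischerAut

open Cfsg CfsgLib.LargeFischer CfsgLib.LargeFischerE

variable {X : Type u} [Group X] [Finite X] {G0 : Subgroup X} [G0.Normal] {z : G0} {Q : Subgroup (Cz z)} [Q.Normal]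
  {D : Data z Q} {C : Coords D}

/-- The centralizer of the outer involution in `G0`. -/
abbrev Yd (G0 : Subgroup X) (d : X) : Subgroup X := G0 ⊓ Subgroup.centralizer ({d} : Set X)

variable {P : Pair C} {d : X} (hd : Outer P d)

/-- The involution `t` in the centralizer of `d`. -/
def tY : ↥(Yd G0 d) :=
  ⟨P.tG, Subgroup.mem_inf.2 ⟨P.tG.2, Subgroup.mem_centralizer_singleton_iff.2 hd.comm_t.eq.symm⟩⟩

theorem orderOf_tY : orderOf (tY hd) = 2 :=
  orderOf_eq_prime (by rw [pow_two]; exact Subtype.ext (coe_tG_sq P)) fun e =>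
    tG_ne_one P (Subtype.ext (show (P.tG : X) = 1 from congrArg Subtype.val e))

/-- The centralizer of `t` in `Y` is the kernel. -/
noncomputable def centEquivKt (hK : KFacts P) :
    ↥(Subgroup.centralizer ({tY hd} : Set ↥(Yd G0 d))) ≃* ↥(Kt P) where
  toFun y := ⟨⟨((y : ↥(Yd G0 d)) : X), (Subgroup.mem_inf.1 (y : ↥(Yd G0 d)).2).1⟩, by
    have h0 := congrArg Subtype.val (Subgroup.mem_centralizer_singleton_iff.1 y.2)
    have h1 : Commute (⟨((y : ↥(Yd G0 d)) : X), (Subgroup.mem_inf.1 (y : ↥(Yd G0 d)).2).1⟩ : G0) P.tG :=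
      Subtype.ext h0
    exact (hd.commute_iff hK h1).1
      (Subgroup.mem_centralizer_singleton_iff.1 (Subgroup.mem_inf.1 (y : ↥(Yd G0 d)).2).2).symm⟩
  invFun k := ⟨⟨((k : G0) : X), Subgroup.mem_inf.2
      ⟨(k : G0).2, Subgroup.mem_centralizer_singleton_iff.2 (hd.comm_K _ k.2).eq.symm⟩⟩,
    Subgroup.mem_centralizer_singleton_iff.2 (Subtype.ext (by
      obtain ⟨_, a, -, rfl⟩ := k
      have h0 := congrArg Subtype.val (Subgroup.mem_centralizer_singleton_iff.1 a.2)
      exact h0))⟩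
  left_inv _ := rfl
  right_inv _ := rfl
  map_mul' _ _ := rfl

variable {T1 : Sylow 2 (Cz z)} {B : Subgroup (Cz z)}

theorem quot_iso (rec : RecU62.{u}) (hA : LargeFischerJ.Anchor C T1 B)
    [((Subgroup.zpowers (tY hd)).subgroupOf (Subgroup.centralizer ({tY hd} : Set ↥(Yd G0 d)))).Normal] :
    Nonempty (↥(Subgroup.centralizer ({tY hd} : Set ↥(Yd G0 d))) ⧸
      (Subgroup.zpowers (tY hd)).subgroupOf (Subgroup.centralizer ({tY hd} : Set ↥(Yd G0 d))) ≃*
        Cfsg.Spor.Fi22) ∧ HasU62 Cfsg.Spor.Fi22 := by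
  classical
  have hK := kFacts rec hA P
  haveI := zpowers_normal P.tG
  obtain ⟨⟨f⟩, hU⟩ := (P.concl_both rec hA).2
  refine ⟨?_, hU⟩
  set Z := (Subgroup.zpowers P.tG).subgroupOf P.Ct with hZ
  set F := Cfsg.generalizedFittingSubgroup ↥P.Ct with hF
  let ι := (centEquivKt hd hK).trans (F.equivMapOfInjective _ P.Ct.subtype_injective).symm
  let φ := ((QuotientGroup.mk' Z).subgroupMap F).comp ι.toMonoidHom
  have hφ : Function.Surjective φ := ((QuotientGroup.mk' Z).subgroupMap_surjective F).comp ι.surjective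
  have hι : ∀ a, (((ι a : F) : P.Ct) : G0) = ((centEquivKt hd hK a : Kt P) : G0) := fun a =>
    congrArg Subtype.val ((F.equivMapOfInjective _ P.Ct.subtype_injective).apply_symm_apply (centEquivKt hd hK a))
  have hker : φ.ker = (Subgroup.zpowers (tY hd)).subgroupOf (Subgroup.centralizer ({tY hd} : Set ↥(Yd G0 d))) := by
    ext a
    rw [MonoidHom.mem_ker, Subgroup.mem_subgroupOf]
    constructor
    · intro h
      have h1 : ((ι a : F) : P.Ct) ∈ Z := (QuotientGroup.eq_one_iff _).1 (congrArg Subtype.val h)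
      obtain ⟨n, hn⟩ := Subgroup.mem_zpowers_iff.1 (Subgroup.mem_subgroupOf.1 h1)
      rw [hι] at hn
      have h2 : (P.tG : X) ^ n = ((a : ↥(Yd G0 d)) : X) := congrArg Subtype.val hn
      exact Subgroup.mem_zpowers_iff.2 ⟨n, Subtype.ext (by rw [SubgroupClass.coe_zpow]; exact h2)⟩
    · intro h
      obtain ⟨n, hn⟩ := Subgroup.mem_zpowers_iff.1 h
      refine Subtype.ext ((QuotientGroup.eq_one_iff _).2 (Subgroup.mem_subgroupOf.2
        (Subgroup.mem_zpowers_iff.2 ⟨n, ?_⟩)))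
      show P.tG ^ n = (((ι a : F) : P.Ct) : G0)
      rw [hι]
      refine Subtype.ext ?_
      have h2 := congrArg (fun b : ↥(Yd G0 d) => (b : X)) hn
      simp only [SubgroupClass.coe_zpow] at h2 ⊢
      exact h2
  exact ⟨((QuotientGroup.quotientMulEquivOfEq hker.symm).trans
    (QuotientGroup.quotientKerEquivOfSurjective φ hφ)).trans f⟩

/-- The conclusions at the involution `t`. -/
def ConclM23 {X : Type u} [Group X] (G0 : Subgroup X) (z : X) : Prop :=
  ∃ d : X, orderOf d = 2 ∧ d ∉ G0 ∧ Commute d z ∧ ∃ t : ↥(G0 ⊓ Subgroup.centralizer ({d} : Set X)),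
    orderOf t = 2 ∧
    Cfsg.IsQuasisimple ↥(Subgroup.centralizer ({t} : Set ↥(G0 ⊓ Subgroup.centralizer ({d} : Set X)))) ∧
    (∃ (_ : ((Subgroup.zpowers t).subgroupOf
        (Subgroup.centralizer ({t} : Set ↥(G0 ⊓ Subgroup.centralizer ({d} : Set X))))).Normal),
      (∃ E : Set (↥(Subgroup.centralizer ({t} : Set ↥(G0 ⊓ Subgroup.centralizer ({d} : Set X)))) ⧸
          (Subgroup.zpowers t).subgroupOf
            (Subgroup.centralizer ({t} : Set ↥(G0 ⊓ Subgroup.centralizer ({d} : Set X))))),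
        Cfsg.IsThreeTranspositionClass E ∧ Cfsg.IsOfTypeM22 _ E) ∧
      HasU62 (↥(Subgroup.centralizer ({t} : Set ↥(G0 ⊓ Subgroup.centralizer ({d} : Set X)))) ⧸
        (Subgroup.zpowers t).subgroupOf
          (Subgroup.centralizer ({t} : Set ↥(G0 ⊓ Subgroup.centralizer ({d} : Set X)))))) ∧
    (∃ g : ↥(G0 ⊓ Subgroup.centralizer ({d} : Set X)),
      g * t * g⁻¹ ∈ Subgroup.centralizer ({t} : Set ↥(G0 ⊓ Subgroup.centralizer ({d} : Set X))) ∧
        g * t * g⁻¹ ≠ t) ∧
    Cfsg.IsThreeTranspositionClass (conjugatesOf t) ∧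
    Cfsg.IsOfTypeM23 ↥(G0 ⊓ Subgroup.centralizer ({d} : Set X)) (conjugatesOf t)

theorem concl_m23_of_shared (rec : RecU62.{u}) (hA : LargeFischerJ.Anchor C T1 B) (hd : Outer P d) {g : G0}
    (hg : g * P.tG * g⁻¹ = P.uG) (hdg : Commute d (g : X)) : ConclM23 G0 (z : X) := by
  have hK := kFacts rec hA P
  haveI := zpowers_normal (tY hd)
  obtain ⟨⟨f⟩, hU⟩ := quot_iso hd rec hA
  have hqs := CfsgLib.Components.isQuasisimple_congr (centEquivKt hd hK).symm hK.qs
  have hU' := hU.congr f.symm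
  obtain ⟨E, hE, h22⟩ := hU'.exists_class
  let gY : ↥(Yd G0 d) := ⟨g, Subgroup.mem_inf.2 ⟨g.2, Subgroup.mem_centralizer_singleton_iff.2 hdg.eq.symm⟩⟩
  have hconj : ((gY * tY hd * gY⁻¹ : ↥(Yd G0 d)) : X) = P.uG := congrArg Subtype.val hg
  have hnwc : ∃ b : ↥(Yd G0 d), b * tY hd * b⁻¹ ∈ Subgroup.centralizer ({tY hd} : Set ↥(Yd G0 d)) ∧
      b * tY hd * b⁻¹ ≠ tY hd := by
    refine ⟨gY, Subgroup.mem_centralizer_singleton_iff.2 (Subtype.ext ?_), fun e => ?_⟩
    · show ((gY * tY hd * gY⁻¹ : ↥(Yd G0 d)) : X) * P.tG = P.tG * ((gY * tY hd * gY⁻¹ : ↥(Yd G0 d)) : X)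
      rw [hconj]
      exact (coe_commute P.tG_comm_uG.symm).eq
    · have h1 : P.uG = P.tG := Subtype.ext (hconj.symm.trans (congrArg Subtype.val e))
      have h2 : P.u = P.t := qIncl_injective Q h1
      exact absurd (D1_injective C (P.hu.symm.trans ((congrArg vec h2).trans P.ht))) (by decide)
  refine ⟨d, orderOf_eq_prime (by rw [pow_two, hd.sq]) fun e => hd.notMem (e ▸ one_mem _), hd.notMem, hd.comm_z,
    tY hd, orderOf_tY hd, hqs, ⟨inferInstance, ⟨E, hE, h22⟩, hU'⟩, hnwc, ?_⟩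
  exact CfsgLib.SporFischer.conclusion_m23 (orderOf_tY hd) hqs hE h22 hnwc

/-- The body of S5460. -/
theorem concl_m23 (rec : RecU62.{u}) (hidx : G0.index = 2) (hF : Cfsg.IsOfLargeFischerTypeAt z Q)
    (hcentral : ∃ P : Sylow 2 G0, z ∈ (P : Subgroup G0) ∧ ∀ x ∈ (P : Subgroup G0), Commute x z)
    (hFX : (Cfsg.generalizedFittingSubgroup ↥(Subgroup.centralizer ({(z : X)} : Set X))).map
      (Subgroup.subtype _) = ((Q.map (Subgroup.subtype _)).map G0.subtype)) : ConclM23 G0 (z : X) := by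
  obtain ⟨D⟩ := exists_data hF
  obtain ⟨C, T1, B, hA⟩ := LargeFischerJ.exists_anchor D
  obtain ⟨P⟩ := exists_pair C
  obtain ⟨d, hd, g, hg, hdg⟩ := exists_shared rec hA hidx hcentral hFX P
  exact concl_m23_of_shared rec hA hd hg hdg

end CfsgLib.LargeFischerAut
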