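import Cfsg.Agent.LargeFischerAut.Kernel

/-!
An involution `d` outside `G0` centralizing the kernel at `t`: some element of `Q` exchanges `d` and `dt`, so
the centralizer of `t` and `d` in `G0` is the kernel; and one such `d` is shared with a conjugate of `t`.
-/

set_option autoImplicit false
set_option linter.unusedSectionVars false
set_option linter.style.haveILetI false
set_option maxHeartbeats 1000000

universe u

namespace CfsgLib.LargeFischerAut

open Cfsg CfsgLib.LargeFischer CfsgLib.LargeFischerE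
open scoped commutatorElement

variable {X : Type u} [Group X] [Finite X] {G0 : Subgroup X} [G0.Normal] {z : G0} {Q : Subgroup (Cz z)} [Q.Normal]
  {D : Data z Q} {C : Coords D}

/-- An involution outside `G0` centralizing the kernel. -/
structure Outer (P : Pair C) (d : X) : Prop where
  notMem : d ∉ G0
  sq : d * d = 1
  comm_z : Commute d (z : X)
  comm_t : Commute d (P.tG : X)
  comm_K : ∀ k ∈ Kt P, Commute d (k : X)
  swap : ∃ s : G0, Commute s P.tG ∧ (s : X) * d * (s : X)⁻¹ = d * P.tG

theorem coe_commute {a b : G0} (h : Commute a b) : Commute (a : X) (b : X) := congrArg Subtype.val h.eq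

theorem tG_ne_one (P : Pair C) : P.tG ≠ 1 := fun e => D1_ne_zero C (a := (1, 0)) (by decide) (by
  rw [← P.ht, show P.t = 1 from qIncl_injective Q (e.trans (map_one _).symm), vec_one])

theorem coe_tG_sq (P : Pair C) : (P.tG : X) * P.tG = 1 := congrArg Subtype.val P.tG_sq

theorem inv_mul_mem (hidx : G0.index = 2) {a b : X} (ha : a ∉ G0) (hb : b ∉ G0) : a⁻¹ * b ∈ G0 := by
  rw [Subgroup.mul_mem_iff_of_index_two hidx, inv_mem_iff]
  exact ⟨fun h => absurd h ha, fun h => absurd h hb⟩

variable {T1 : Sylow 2 (Cz z)} {B : Subgroup (Cz z)}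

section Facts

variable {P : Pair C} (hK : KFacts P)
include hK

theorem z_mem_Kt : z ∈ Kt P := hK.ec_le P.z_mem_EC

theorem uG_mem_Kt : P.uG ∈ Kt P :=
  hK.ec_le (P.E_le_EC (P.toG_mem_E.2 (Or.inr (Or.inr (Or.inl rfl)))))

theorem Outer.mul_t {d : X} (h : Outer P d) : Outer P (d * P.tG) := by
  have hkt : ∀ k ∈ Kt P, Commute (P.tG : X) (k : X) := by
    rintro _ ⟨a, -, rfl⟩
    exact (coe_commute (Subgroup.mem_centralizer_singleton_iff.1 a.2)).symm
  refine ⟨fun e => h.notMem ?_, ?_, h.comm_z.mul_left (hkt _ (z_mem_Kt hK)), h.comm_t.mul_left (Commute.refl _),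
    fun k hk => (h.comm_K k hk).mul_left (hkt k hk), ?_⟩
  · have := mul_mem e (inv_mem P.tG.2)
    rwa [mul_inv_cancel_right] at this
  · rw [Commute.mul_mul_mul_comm h.comm_t.symm, h.sq, coe_tG_sq, one_mul]
  · obtain ⟨s, hst, hs⟩ := h.swap
    refine ⟨s, hst, ?_⟩
    rw [show (s : X) * (d * P.tG) * (s : X)⁻¹ = (s : X) * d * (s : X)⁻¹ * ((s : X) * P.tG * (s : X)⁻¹) by group,
      hs, mul_inv_eq_iff_eq_mul.2 (coe_commute hst).eq]

/-- The centralizer of `t` and `d` in `G0` is the kernel. -/
theorem Outer.commute_iff {d : X} (h : Outer P d) {g : G0} (hg : Commute g P.tG) :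
    Commute d (g : X) ↔ g ∈ Kt P := by
  refine ⟨fun hc => by_contra fun hgK => ?_, fun hk => h.comm_K g hk⟩
  obtain ⟨s, hst, hs⟩ := h.swap
  have hne : ¬ Commute d (s : X) := fun hcs => tG_ne_one P (Subtype.ext (by
    rw [mul_inv_eq_iff_eq_mul.2 hcs.eq.symm] at hs
    exact mul_eq_left.1 hs.symm))
  have hsK : s ∉ Kt P := fun hsK => hne (h.comm_K s hsK)
  have h1 := h.comm_K _ (hK.index g s hg hst hgK hsK)
  refine hne ?_
  have h2 := hc.inv_right.mul_right h1
  rwa [Subgroup.coe_mul, inv_mul_cancel_left] at h2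

/-- An element of `G0` centralizing the kernel and `t` is `1` or `t`. -/
theorem self_cases {g : G0} (hg : Commute (g : X) (P.tG : X)) (hc : ∀ k ∈ Kt P, Commute (g : X) (k : X)) :
    g = 1 ∨ g = P.tG :=
  hK.self g (Subtype.ext hg.eq) fun k hk => Subtype.ext (hc k hk).eq

end Facts

theorem double_centralizer (P : Pair C) {w : Q}
    (h : ∀ a : Q, Commute a P.t → Commute a P.u → Commute w a) : w ∈ P.KQ := by
  haveI : Fact (Nat.Prime 2) := ⟨Nat.prime_two⟩
  rw [← CfsgLib.ExtraspecialBasic.centralizer_centralizer D.hS.2.2.1 (K := P.KQ) le_sup_right]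
  exact Subgroup.mem_centralizer_iff.2 fun a ha => by
    obtain ⟨h1, h2⟩ := P.centralizer_KQ.1 ha
    exact (h a h1 h2).eq.symm

theorem sq_of_mem_KQ (P : Pair C) {w : Q} (h : w ∈ P.KQ) : w * w = 1 := by
  obtain ⟨a, ha, c, hc, rfl⟩ := P.mem_KQ.1 h
  have hca : Commute a c := Subgroup.mem_center_iff.1 hc a
  rw [Commute.mul_mul_mul_comm hca.symm]
  have h1 : a * a = 1 := by
    rcases P.mem_Eq.1 ha with rfl | rfl | rfl | rfl
    · rw [mul_one]
    · exact P.t_sq
    · exact P.u_sq
    · rw [Commute.mul_mul_mul_comm P.tu_comm.symm, P.t_sq, P.u_sq, one_mul]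
  rcases (mem_center_cases D.hS).1 hc with rfl | rfl
  · rw [h1, one_mul, one_mul]
  · rw [h1, zin_sq, one_mul]

theorem commute_of_bf_zero (D : Data z Q) {a b : Q} (h : bf D.hS (vec a) (vec b) = 0) : Commute a b :=
  (bf_eq_zero_iff D.hS a b).1 h

theorem not_commute_of_bf_one (D : Data z Q) {a b : Q} (h : bf D.hS (vec a) (vec b) = 1) : ¬ Commute a b :=
  fun hc => by
    rw [(bf_eq_zero_iff D.hS a b).2 hc] at h
    exact absurd h (by decide)

/-- A conjugate commutes with whatever the element itself commutes with, up to a central element. -/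
theorem commute_conj (D : Data z Q) (v : Q) {a b : Q} (h : Commute a b) : Commute (v * a * v⁻¹) b := by
  have hc : (v * a * v⁻¹) = ⁅v, a⁆ * a := by rw [commutatorElement_def]; group
  rw [hc]
  refine Commute.mul_left ?_ h
  exact (Subgroup.mem_center_iff.1 (CfsgLib.ExtraspecialBasic.commutator_mem_center D.hS.2.2.1 v a) b).symm

/-- The translation by which an element fixing `z` moves an element of `Q`; it commutes with whatever elements
of `Q` are fixed together with their conjugates. -/
theorem exists_shiftQ (D : Data z Q) {d : X} (hdz : Commute d (z : X)) (v : Q) :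
    ∃ w : Q, cG d (toG v) = toG v * toG w ∧
      ∀ a : Q, cG d (toG a) = toG a → cG d (toG (v * a * v⁻¹)) = toG (v * a * v⁻¹) → Commute w a := by
  obtain ⟨v', hv'⟩ := mem_inG.1 (cG_mem_inG D.hS hdz (mem_inG.2 ⟨v, rfl⟩))
  refine ⟨v⁻¹ * v', ?_, fun a ha hva => ?_⟩
  · rw [Pair.toG_mul, ← hv']
    exact (mul_inv_cancel_left (toG v) (toG v')).symm
  · have e : ∀ q r : Q, toG (q * r) = toG q * toG r := Pair.toG_mul
    have ei : ∀ q : Q, toG q⁻¹ = (toG q)⁻¹ := fun q => map_inv (qIncl Q) q
    have h1 : toG (v' * a * v'⁻¹) = toG (v * a * v⁻¹) := by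
      rw [← hva]
      simp only [e, ei, map_mul, map_inv, ha, hv']
    have h2 := LargeFischerJ.toG_injective h1
    show v⁻¹ * v' * a = a * (v⁻¹ * v')
    calc v⁻¹ * v' * a = v⁻¹ * (v' * a * v'⁻¹) * v' := by group
      _ = v⁻¹ * (v * a * v⁻¹) * v' := by rw [h2]
      _ = a * (v⁻¹ * v') := by group

section Existence

variable (rec : RecU62.{u}) (hA : LargeFischerJ.Anchor C T1 B) (hidx : G0.index = 2)
  (hcentral : ∃ P : Sylow 2 G0, z ∈ (P : Subgroup G0) ∧ ∀ x ∈ (P : Subgroup G0), Commute x z)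
  (hFX : (Cfsg.generalizedFittingSubgroup ↥(Subgroup.centralizer ({(z : X)} : Set X))).map
    (Subgroup.subtype _) = ((Q.map (Subgroup.subtype _)).map G0.subtype))

include hidx hFX in
/-- Nothing outside `G0` fixing `z` centralizes `Q`. -/
theorem not_centralizes {y : X} (hy : y ∉ G0) (hyz : Commute y (z : X)) :
    ∃ q : Q, ¬ Commute y ((toG q : G0) : X) := by
  by_contra h
  push Not at h
  refine hy ?_
  have hyC : y ∈ Subgroup.centralizer ({(z : X)} : Set X) := Subgroup.mem_centralizer_singleton_iff.2 hyz.eq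
  have hmem : (⟨y, hyC⟩ : Subgroup.centralizer ({(z : X)} : Set X)) ∈
      Subgroup.centralizer (Cfsg.generalizedFittingSubgroup ↥(Subgroup.centralizer ({(z : X)} : Set X)) :
        Set ↥(Subgroup.centralizer ({(z : X)} : Set X))) := by
    refine Subgroup.mem_centralizer_iff.2 fun a ha => Subtype.ext ?_
    have h1 : (a : X) ∈ (Q.map (Cz z).subtype).map G0.subtype := hFX ▸ ⟨a, ha, rfl⟩
    obtain ⟨g, hg, e⟩ := h1
    obtain ⟨q, rfl⟩ := mem_inG.1 hg
    show (a : X) * y = y * a
    rw [← e]
    exact (h q).eq.symm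
  have h1 : y ∈ (Q.map (Cz z).subtype).map G0.subtype :=
    hFX ▸ ⟨_, CfsgLib.Components.centralizer_generalizedFitting_le_self hmem, rfl⟩
  obtain ⟨g, -, rfl⟩ := h1
  exact g.2

include rec hA hidx hcentral hFX in
theorem exists_outer (P : Pair C) : ∃ d : X, Outer P d := by
  have hK := kFacts rec hA P
  obtain ⟨x, hx, -, hxt⟩ := exists_outer_fix P hidx hcentral
  obtain ⟨g, hgt, hgK⟩ := hK.outer x hxt
  set d : X := (g : X)⁻¹ * x with hd
  have hd0 : d ∉ G0 := fun e => hx (by
    have := mul_mem g.2 e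
    rwa [hd, mul_inv_cancel_left] at this)
  have hdt : Commute d (P.tG : X) := (coe_commute hgt).inv_left.mul_left hxt
  have hdz : Commute d (z : X) := hgK z (z_mem_Kt hK)
  have hfixA : ∀ a : Q, Commute a P.t → Commute a P.u → cG d (toG a) = toG a := fun a h1 h2 =>
    cG_eq_self.2 (hgK _ (hK.ec_le (P.mem_EC_iff.2
      ⟨congrArg (qIncl Q) h1.eq, congrArg (qIncl Q) h2.eq⟩)))
  have hshift : ∀ v : Q, ∃ w : Q, cG d (toG v) = toG v * toG w ∧ w ∈ P.KQ := fun v => by
    obtain ⟨w, hw, hwc⟩ := exists_shiftQ D hdz v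
    exact ⟨w, hw, double_centralizer P fun a h1 h2 =>
      hwc a (hfixA a h1 h2) (hfixA _ (commute_conj D v h1) (commute_conj D v h2))⟩
  have hKQcomm : ∀ w ∈ P.KQ, Commute w P.t ∧ Commute w P.u := by
    intro w hw
    obtain ⟨a, ha, c, hc, rfl⟩ := P.mem_KQ.1 hw
    have key : ∀ b, b = P.t ∨ b = P.u → Commute (a * c) b := fun b hb => by
      refine Commute.mul_left ?_ (Subgroup.mem_center_iff.1 hc b).symm
      have h1 : Commute P.t P.u := P.tu_comm
      rcases P.mem_Eq.1 ha with rfl | rfl | rfl | rfl <;> rcases hb with rfl | rfl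
      all_goals
        first
          | exact Commute.one_left _
          | exact Commute.refl _
          | exact h1
          | exact h1.symm
          | exact (Commute.refl _).mul_left h1.symm
          | exact h1.mul_left (Commute.refl _)
    exact ⟨key _ (Or.inl rfl), key _ (Or.inr rfl)⟩
  -- `d` is an involution
  have hsq : d * d = 1 := by
    have hm : d * d ∈ G0 := (Subgroup.mul_mem_iff_of_index_two hidx).2 Iff.rfl
    rcases self_cases hK (g := ⟨d * d, hm⟩) (hdt.mul_left hdt) (fun k hk => (hgK k hk).mul_left (hgK k hk)) with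
      h | h
    · exact congrArg Subtype.val h
    exfalso
    have hdd : d * d = P.tG := congrArg Subtype.val h
    obtain ⟨v, hv, -⟩ := P.exists_q 1 0
    obtain ⟨w, hw, hwKQ⟩ := hshift v
    have hwfix : cG d (toG w) = toG w := hfixA w (hKQcomm w hwKQ).1 (hKQcomm w hwKQ).2
    have hw2 : toG w * toG w = (1 : G0) := by
      rw [← Pair.toG_mul, sq_of_mem_KQ P hwKQ]
      exact map_one (qIncl Q)
    have h2 : cG (P.tG : X) (toG v) = toG v := by
      rw [← hdd, show cG (d * d) (toG v) = cG d (cG d (toG v)) from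
        DFunLike.congr_fun (map_mul MulAut.conjNormal d d) _, hw, map_mul, hw, hwfix, mul_assoc, hw2, mul_one]
    refine not_commute_of_bf_one D hv (LargeFischerJ.toG_injective ?_).symm
    rw [Pair.toG_mul, Pair.toG_mul]
    exact Subtype.ext (cG_eq_self.1 h2).eq
  -- some element of `Q` commuting with `t` moves `d`
  obtain ⟨s, hst, hsd⟩ : ∃ s : Q, Commute s P.t ∧ ¬ Commute d ((toG s : G0) : X) := by
    by_contra hall
    push Not at hall
    have hfixB : ∀ q : Q, Commute q P.t → cG d (toG q) = toG q := fun q hq => cG_eq_self.2 (hall q hq)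
    obtain ⟨v, hv, -⟩ := P.exists_q 1 0
    obtain ⟨s, hs1, hs2⟩ := P.exists_q 0 1
    have hst : Commute s P.t := commute_of_bf_zero D hs1
    obtain ⟨w, hw, hwc⟩ := exists_shiftQ D hdz v
    have hwB : ∀ q : Q, Commute q P.t → Commute w q := fun q hq =>
      hwc q (hfixB q hq) (hfixB _ (commute_conj D v hq))
    have hwKQ : w ∈ P.KQ := double_centralizer P fun a h1 _ => hwB a h1
    obtain ⟨a, ha, c, hc, e⟩ := P.mem_KQ.1 hwKQ
    have has : Commute a s := by
      have h1 : Commute (a * c) s := e ▸ hwB s hst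
      have h2 : Commute c⁻¹ s := (Subgroup.mem_center_iff.1 (inv_mem hc) s).symm
      simpa using h1.mul_left h2
    have hnu : ¬ Commute s P.u := not_commute_of_bf_one D hs2
    have ha' : a = 1 ∨ a = P.t := by
      rcases P.mem_Eq.1 ha with rfl | rfl | rfl | rfl
      · exact Or.inl rfl
      · exact Or.inr rfl
      · exact absurd has.symm hnu
      · refine absurd ?_ hnu
        have := (hst.inv_right).mul_right has.symm
        rwa [inv_mul_cancel_left] at this
    have hvt : ¬ Commute v P.t := not_commute_of_bf_one D hv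
    have hfixc : ∀ c ∈ Subgroup.center Q, cG d (toG c) = toG c := fun c hc =>
      hfixB c (Subgroup.mem_center_iff.1 hc P.t).symm
    have hvw : v * w * (v * w) = v * v := by
      refine LargeFischerJ.toG_injective ?_
      rw [← hfixc (v * v) ((vec_eq_zero D.hS).1 (by rw [vec_mul, QV_two D.hS])), Pair.toG_mul, Pair.toG_mul,
        Pair.toG_mul, map_mul, hw]
    have hwc' : w ∈ Subgroup.center Q := by
      rcases ha' with rfl | rfl
      · rwa [← e, one_mul]
      · exfalso
        refine hvt ?_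
        have hcv : ∀ q : Q, c * q = q * c := fun q => (Subgroup.mem_center_iff.1 hc q).symm
        have hc2 : c * c = 1 := by
          rcases (mem_center_cases D.hS).1 hc with rfl | rfl
          · rw [one_mul]
          · exact zin_sq (hS := D.hS)
        have h3 : v * P.t * (v * P.t) = v * v := by
          rw [← hvw, ← e]
          calc v * P.t * (v * P.t) = v * P.t * (v * P.t) * (c * c) := by rw [hc2, mul_one]
            _ = v * P.t * ((v * P.t) * c) * c := by group
            _ = v * P.t * (c * (v * P.t)) * c := by rw [hcv (v * P.t)]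
            _ = _ := by group
        have h4 : P.t * v * P.t = v := by
          refine mul_left_cancel (a := v) ?_
          rw [← mul_assoc, ← mul_assoc, ← h3, mul_assoc (v * P.t)]
        show v * P.t = P.t * v
        calc v * P.t = P.t * v * P.t * P.t := by rw [h4]
          _ = P.t * v := by rw [mul_assoc _ P.t, P.t_sq, mul_one]
    -- all of `Q` is fixed by `d` or by `dt`
    have hall' : ∀ y : X, (∀ q : Q, Commute q P.t → cG y (toG q) = toG q) → cG y (toG v) = toG v →
        ∀ q : Q, Commute y ((toG q : G0) : X) := by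
      intro y hyB hyv q
      rcases (by decide : ∀ e : ZMod 2, e = 0 ∨ e = 1) (bf D.hS (vec q) (vec P.t)) with h | h
      · exact cG_eq_self.1 (hyB q (commute_of_bf_zero D h))
      · have hqv : Commute (q * v) P.t := by
          refine commute_of_bf_zero D ?_
          rw [vec_mul, bf_add_left D, h, hv]
          decide
        have h1 := hyB _ hqv
        rw [Pair.toG_mul, map_mul, hyv, mul_left_inj] at h1
        exact cG_eq_self.1 h1
    rcases (mem_center_cases D.hS).1 hwc' with rfl | rfl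
    · rw [show toG (1 : Q) = (1 : G0) from map_one (qIncl Q), mul_one] at hw
      obtain ⟨q, hq⟩ := not_centralizes hidx hFX hd0 hdz
      exact hq (hall' d hfixB hw q)
    · have hd1 : d * P.tG ∉ G0 := fun e => hd0 (by
        have := mul_mem e (inv_mem P.tG.2)
        rwa [mul_inv_cancel_right] at this)
      have htz : Commute (P.tG : X) (z : X) := coe_commute (Pair.z_comm_toG P.t).symm
      obtain ⟨q, hq⟩ := not_centralizes hidx hFX hd1 (hdz.mul_left htz)
      refine hq (hall' _ (fun r hr => ?_) ?_ q)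
      · rw [show cG (d * P.tG) (toG r) = cG d (cG (P.tG : X) (toG r)) from
          DFunLike.congr_fun (map_mul MulAut.conjNormal d (P.tG : X)) _,
          cG_eq_self.2 (coe_commute (show Commute P.tG (toG r) from (congrArg (qIncl Q) hr.eq).symm))]
        exact hfixB r hr
      · have h1 : cG (P.tG : X) (toG v) = toG v * z := by
          have h2 : P.t * v * P.t⁻¹ = v * zin D.hS := by
            rw [mul_swap' (hS := D.hS) P.t v, bf_comm D, hv, zp_one, mul_assoc (v * P.t),
              ← Subgroup.mem_center_iff.1 ((mem_center_cases D.hS).2 (Or.inr rfl)) P.t⁻¹, ← mul_assoc,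
              mul_inv_cancel_right]
          have h3 := congrArg (qIncl Q) h2
          rw [map_mul, map_mul, map_inv, map_mul] at h3
          exact Subtype.ext ((coe_cG _ _).trans (congrArg Subtype.val h3))
        rw [show cG (d * P.tG) (toG v) = cG d (cG (P.tG : X) (toG v)) from
          DFunLike.congr_fun (map_mul MulAut.conjNormal d (P.tG : X)) _, h1, map_mul, hw, Pair.zin_toG D,
          cG_eq_self.2 hdz, mul_assoc, P.z_sq, mul_one]
  -- hence it exchanges `d` and `dt`
  refine ⟨d, hd0, hsq, hdz, hdt, fun k hk => hgK k hk, toG s, congrArg (qIncl Q) hst.eq, ?_⟩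
  have hst' : Commute ((toG s : G0) : X) (P.tG : X) := coe_commute (congrArg (qIncl Q) hst.eq)
  set d' : X := ((toG s : G0) : X) * d * ((toG s : G0) : X)⁻¹ with hd'
  have hd'0 : d' ∉ G0 := fun e => hd0 (by
    have := mul_mem (mul_mem (inv_mem (toG s).2) e) (toG s).2
    rwa [hd', show ∀ a b : X, a⁻¹ * (a * b * a⁻¹) * a = b from fun a b => by group] at this)
  have hd't : Commute d' (P.tG : X) := (hst'.mul_left hdt).mul_left hst'.inv_left
  have hd'K : ∀ k ∈ Kt P, Commute d' (k : X) := by
    intro k hk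
    have hk' := hgK _ (hK.normal (toG s)⁻¹ (show Commute (toG s) P.tG from congrArg (qIncl Q) hst.eq).inv_left k hk)
    have h1 := hk'.map (MulAut.conj ((toG s : G0) : X)).toMonoidHom
    simp only [MulEquiv.coe_toMonoidHom, MulAut.conj_apply, Subgroup.coe_mul, Subgroup.coe_inv] at h1
    rwa [show ∀ a b : X, a * (a⁻¹ * b * a⁻¹⁻¹) * a⁻¹ = b from fun a b => by group] at h1
  rcases self_cases hK (g := ⟨d⁻¹ * d', inv_mul_mem hidx hd0 hd'0⟩) (hdt.inv_left.mul_left hd't)
      (fun k hk => (hgK k hk).inv_left.mul_left (hd'K k hk)) with h | h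
  · refine absurd ?_ hsd
    have h1 : d' = d := (inv_mul_eq_one.1 (congrArg Subtype.val h)).symm
    exact (mul_inv_eq_iff_eq_mul.1 h1).symm
  · exact inv_mul_eq_iff_eq_mul.1 (congrArg Subtype.val h)

include rec hA hidx hcentral hFX in
/-- One of the involutions is shared with the conjugate `u` of `t`. -/
theorem exists_shared (P : Pair C) :
    ∃ d : X, Outer P d ∧ ∃ g : G0, g * P.tG * g⁻¹ = P.uG ∧ Commute d (g : X) := by
  have hK := kFacts rec hA P
  obtain ⟨d, hd⟩ := exists_outer rec hA hidx hcentral hFX P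
  have hu2 : orderOf P.uG = 2 := orderOf_eq_prime (by rw [pow_two, P.uG_sq]) fun e1 =>
    D1_ne_zero C (a := (0, 1)) (by decide) (by
      rw [← P.hu, show P.u = 1 from qIncl_injective Q (e1.trans (map_one _).symm), vec_one])
  obtain ⟨g, -, hg⟩ := exists_conj_pair P P.uG ⟨(P.u : Cz z).2, P.u.2⟩ hu2
    (not_isConj_of_inA C (P.hu ▸ D1_inA C (by decide)))
  have hgX : (g : X) * P.tG * (g : X)⁻¹ = P.uG := congrArg Subtype.val hg
  set d' : X := (g : X) * d * (g : X)⁻¹ with hd'
  have hd'0 : d' ∉ G0 := fun e => hd.notMem (by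
    have := mul_mem (mul_mem (inv_mem g.2) e) g.2
    rwa [hd', show ∀ a b : X, a⁻¹ * (a * b * a⁻¹) * a = b from fun a b => by group] at this)
  -- `d'` centralizes the centralizer of the four-group
  obtain ⟨hqs, hcen, -⟩ := P.ec_facts rec hA
  have hd'EC : ∀ a ∈ P.EC, Commute d' (a : X) := by
    intro a ha
    have hle : P.EC.map (MulAut.conj g⁻¹).toMonoidHom ≤ Kt P := by
      refine hK.perfect_le _ ?_ ?_
      · exact (CfsgLib.Components.isQuasisimple_congr
          (P.EC.equivMapOfInjective _ (MulAut.conj g⁻¹).injective) hqs).1.commutator_eq_top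
      · rintro _ ⟨b, hb, rfl⟩
        have h1 : Commute b P.uG := (P.mem_EC_iff.1 hb).2
        have h2 := h1.map (MulAut.conj g⁻¹).toMonoidHom
        simp only [MulEquiv.coe_toMonoidHom, MulAut.conj_apply, ← hg] at h2 ⊢
        rwa [show g⁻¹ * (g * P.tG * g⁻¹) * g⁻¹⁻¹ = P.tG by group] at h2
    have hk := hd.comm_K _ (hle ⟨a, ha, rfl⟩)
    have h1 := hk.map (MulAut.conj (g : X)).toMonoidHom
    simp only [MulEquiv.coe_toMonoidHom, MulAut.conj_apply, Subgroup.coe_mul, Subgroup.coe_inv] at h1
    rwa [show ∀ a b : X, a * (a⁻¹ * b * a⁻¹⁻¹) * a⁻¹ = b from fun a b => by group] at h1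
  have hdEC : ∀ a ∈ P.EC, Commute d (a : X) := fun a ha => hd.comm_K a (hK.ec_le ha)
  let y : G0 := ⟨d⁻¹ * d', inv_mul_mem hidx hd.notMem hd'0⟩
  have hy : ∀ a ∈ P.EC, Commute y a := fun a ha =>
    Subtype.ext ((hdEC a ha).inv_left.mul_left (hd'EC a ha)).eq
  have hyEC : y ∈ P.EC := P.mem_EC_iff.2
    ⟨(hy _ (P.E_le_EC (P.toG_mem_E.2 (Or.inr (Or.inl rfl))))).eq,
      (hy _ (P.E_le_EC (P.toG_mem_E.2 (Or.inr (Or.inr (Or.inl rfl)))))).eq⟩
  have hyE : y ∈ P.E := by
    have h1 : (⟨y, hyEC⟩ : P.EC) ∈ Subgroup.center P.EC :=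
      Subgroup.mem_center_iff.2 fun a => Subtype.ext (hy a a.2).eq.symm
    rw [hcen] at h1
    exact Subgroup.mem_subgroupOf.1 h1
  obtain ⟨e0, he0, hye⟩ := hyE
  have hd'eq : d' = d * (y : X) := by
    show d' = d * (d⁻¹ * d')
    rw [mul_inv_cancel_left]
  obtain ⟨s, hst, hs⟩ := hd.swap
  have hgs : (g * s) * P.tG * (g * s)⁻¹ = P.uG := by
    calc g * s * P.tG * (g * s)⁻¹ = g * (s * P.tG * s⁻¹) * g⁻¹ := by group
      _ = P.uG := by rw [mul_inv_eq_iff_eq_mul.2 hst.eq, hg]
  have hu2' : (P.uG : X) * P.uG = 1 := congrArg Subtype.val P.uG_sq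
  have htu : Commute (P.tG : X) (P.uG : X) := coe_commute P.tG_comm_uG
  rcases P.mem_Eq.1 he0 with rfl | rfl | rfl | rfl
  · refine ⟨d, hd, g, hg, (mul_inv_eq_iff_eq_mul.1 ?_).symm⟩
    rw [← hd', hd'eq, ← hye, map_one, Subgroup.coe_one, mul_one]
  · refine ⟨d * P.tG, hd.mul_t hK, g * s, hgs, (mul_inv_eq_iff_eq_mul.1 ?_).symm⟩
    calc ((g * s : G0) : X) * (d * P.tG) * ((g * s : G0) : X)⁻¹
        = (g : X) * ((s : X) * d * (s : X)⁻¹ * ((s : X) * P.tG * (s : X)⁻¹)) * (g : X)⁻¹ := by
          rw [Subgroup.coe_mul]; group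
      _ = d * P.tG := by
          rw [hs, mul_inv_eq_iff_eq_mul.2 (coe_commute hst).eq, mul_assoc d, coe_tG_sq, mul_one, ← hd', hd'eq,
            ← hye]
          rfl
  · refine ⟨d, hd, g * s, hgs, (mul_inv_eq_iff_eq_mul.1 ?_).symm⟩
    calc ((g * s : G0) : X) * d * ((g * s : G0) : X)⁻¹
        = (g : X) * ((s : X) * d * (s : X)⁻¹) * (g : X)⁻¹ := by rw [Subgroup.coe_mul]; group
      _ = (g : X) * d * (g : X)⁻¹ * ((g : X) * P.tG * (g : X)⁻¹) := by rw [hs]; group
      _ = d := by
          rw [← hd', hgX, hd'eq, ← hye, mul_assoc]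
          exact (congrArg (d * ·) hu2').trans (mul_one d)
  · refine ⟨d * P.tG, hd.mul_t hK, g, hg, (mul_inv_eq_iff_eq_mul.1 ?_).symm⟩
    calc (g : X) * (d * P.tG) * (g : X)⁻¹
        = (g : X) * d * (g : X)⁻¹ * ((g : X) * P.tG * (g : X)⁻¹) := by group
      _ = d * P.tG := by
          rw [← hd', hgX, hd'eq, ← hye, mul_assoc, map_mul, Subgroup.coe_mul, mul_assoc]
          exact congrArg (fun a => d * ((P.tG : X) * a)) hu2' |>.trans (by rw [mul_one])

end Existence

end CfsgLib.LargeFischerAut
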